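import Groth.Agent.Lib.Smoothing.Approx.StalkGerm
import Mathlib

/-! # A finite type refinement pinning maps to a completion modulo a power. -/

set_option autoImplicit false
set_option backward.isDefEq.respectTransparency false

universe u

open CategoryTheory AlgebraicGeometry IsLocalRing

namespace GrothLib.CplControl8

/-- Every element of the completion is an element of the ring modulo a power. -/
theorem exists_sub_mem_map {O : Type u} [CommRing O] (I : Ideal O) (hI : I.FG) (N : ℕ)
    (z : AdicCompletion I O) :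
    ∃ c : O, z - algebraMap O (AdicCompletion I O) c ∈ (I ^ N).map (algebraMap O (AdicCompletion I O)) := by
  obtain ⟨c', hc⟩ := AdicCompletion.eval_surjective I O N (AdicCompletion.eval I O N z)
  obtain ⟨c, hc'⟩ := Submodule.Quotient.mk_surjective _ (AdicCompletion.eval I O N z)
  refine ⟨c, ?_⟩
  have hmem : z - algebraMap O (AdicCompletion I O) c ∈ I ^ N • (⊤ : Submodule O (AdicCompletion I O)) := by
    rw [AdicCompletion.pow_smul_top_eq_ker_eval hI, LinearMap.mem_ker, map_sub, sub_eq_zero, ← hc',
      AdicCompletion.algebraMap_apply]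
    rfl
  rwa [Ideal.smul_top_eq_map, Submodule.restrictScalars_mem] at hmem

/-- The algebra: a finitely presented algebra pinning maps modulo `K`. -/
theorem exists_pinning {R B C : Type u} [CommRing R] [IsNoetherianRing R] [CommRing B] [Algebra R B]
    [Algebra.FiniteType R B] [CommRing C] (κρ : R →+* C) (J : Ideal R) (σ : B →+* C)
    (hσ : ∀ x, σ (algebraMap R B x) = κρ x)
    (happrox : ∀ z : C, ∃ x d : R, IsUnit (κρ d) ∧ z * κρ d - κρ x ∈ J.map κρ) :
    ∃ (B' : Type u) (_ : CommRing B') (ι : B →+* B') (τ : B' →+* C),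
      ι.FiniteType ∧ τ.comp ι = σ ∧
        ∀ (σ' : B →+* C) (τ' : B' →+* C), (∀ x, σ' (algebraMap R B x) = κρ x) → τ'.comp ι = σ' →
          ∀ b, σ b - σ' b ∈ J.map κρ := by
  classical
  obtain ⟨s, hs⟩ := Algebra.FiniteType.out (R := R) (A := B)
  obtain ⟨w, hw⟩ : ∃ w : Finset R, Ideal.span (w : Set R) = J := IsNoetherian.noetherian J
  choose x d hd hxd using fun a : s => happrox (σ a.1)
  have hspan : J.map κρ = Ideal.span (Set.range fun j : w => κρ j.1) := by
    rw [← hw, Ideal.map_span]
    congr 1
    ext; simp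
  have hz : ∀ a : s, ∃ c : w → C, ∑ j, c j * κρ j.1 = σ a.1 * κρ (d a) - κρ (x a) := fun a =>
    Ideal.mem_span_range_iff_exists_fun.mp (hspan ▸ hxd a)
  choose c hc using hz
  let P := MvPolynomial (s × w) B
  let rel : s → P := fun a => MvPolynomial.C (a.1 * algebraMap R B (d a) - algebraMap R B (x a)) -
    ∑ j : w, MvPolynomial.X (a, j) * MvPolynomial.C (algebraMap R B j.1)
  let Q := P ⧸ Ideal.span (Set.range rel)
  let ι : B →+* Q := (Ideal.Quotient.mk _).comp MvPolynomial.C
  have hker : ∀ p ∈ Ideal.span (Set.range rel), MvPolynomial.eval₂Hom σ (fun i => c i.1 i.2) p = 0 := by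
    intro p hp
    induction hp using Submodule.span_induction with
    | mem p hp =>
      obtain ⟨a, rfl⟩ := hp
      simp only [rel, map_sub, map_mul, map_sum, MvPolynomial.eval₂Hom_C, MvPolynomial.eval₂Hom_X', hσ, hc, sub_self]
    | zero => exact map_zero _
    | add p q _ _ hp hq => rw [map_add, hp, hq, add_zero]
    | smul r p _ hp => rw [smul_eq_mul, map_mul, hp, mul_zero]
  refine ⟨Q, inferInstance, ι, Ideal.Quotient.lift _ _ hker, ?_, ?_, fun σ' τ' hσ' hτ' b => ?_⟩
  · exact RingHom.FiniteType.comp_surjective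
      (show (MvPolynomial.C : B →+* P).FiniteType from
        RingHom.finiteType_algebraMap.mpr (inferInstance : Algebra.FiniteType B P))
      Ideal.Quotient.mk_surjective
  · refine RingHom.ext fun b => ?_
    show MvPolynomial.eval₂Hom σ (fun i : s × w => c i.1 i.2) (MvPolynomial.C b) = σ b
    exact MvPolynomial.eval₂Hom_C ..
  · let K := J.map κρ
    let f : B →+* C ⧸ K := (Ideal.Quotient.mk K).comp σ
    let f' : B →+* C ⧸ K := (Ideal.Quotient.mk K).comp σ'
    have hR : ∀ r, f (algebraMap R B r) = f' (algebraMap R B r) := fun r => by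
      show Ideal.Quotient.mk K (σ _) = Ideal.Quotient.mk K (σ' _)
      rw [hσ, hσ']
    have hgen : ∀ a : s, f a.1 = f' a.1 := fun a => by
      have h1 : Ideal.Quotient.mk K (σ a.1) * Ideal.Quotient.mk K (κρ (d a)) = Ideal.Quotient.mk K (κρ (x a)) := by
        rw [← map_mul, Ideal.Quotient.eq]; exact hxd a
      have h0 : τ' (Ideal.Quotient.mk _ (rel a)) = 0 := by
        rw [Ideal.Quotient.eq_zero_iff_mem.mpr (Ideal.subset_span (s := Set.range rel) ⟨a, rfl⟩), map_zero]
      have hC : ∀ e, τ' (Ideal.Quotient.mk _ (MvPolynomial.C e)) = σ' e := fun e =>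
        RingHom.congr_fun hτ' e
      simp only [rel, map_sub, map_mul, map_sum, hC, hσ'] at h0
      have h2 : Ideal.Quotient.mk K (σ' a.1) * Ideal.Quotient.mk K (κρ (d a)) = Ideal.Quotient.mk K (κρ (x a)) := by
        rw [← map_mul, Ideal.Quotient.eq]
        rw [sub_eq_zero.mp h0]
        exact Ideal.sum_mem _ fun j _ => Ideal.mul_mem_left _ _
          (Ideal.mem_map_of_mem _ ((Ideal.ext_iff.mp hw j.1).mp (Ideal.subset_span j.2)))
      exact ((hd a).map (Ideal.Quotient.mk K)).mul_right_cancel (h1.trans h2.symm)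
    have htop : b ∈ Algebra.adjoin R (s : Set B) := hs ▸ Algebra.mem_top
    have : f b = f' b := by
      induction htop using Algebra.adjoin_induction with
      | mem y hy => exact hgen ⟨y, hy⟩
      | algebraMap r => exact hR r
      | add y z _ _ hy hz => rw [map_add, map_add, hy, hz]
      | mul y z _ _ hy hz => rw [map_mul, map_mul, hy, hz]
    exact Ideal.Quotient.eq.mp this

end GrothLib.CplControl8
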